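import Groth.Agent.Lib.Smoothing.Popescu.Field
import Groth.Agent.Lib.Smoothing.Nilpotent
import Mathlib.RingTheory.LocalRing.ResidueField.Fiber
import Mathlib.RingTheory.Localization.Basic

/-!
# Fibres of a regular homomorphism and quotients of localizations
-/

universe u

open scoped TensorProduct

namespace Groth.Agent.Lib.Smoothing.Popescu.Fibre

variable {R Λ : Type u} [CommRing R] [CommRing Λ] [Algebra R Λ]

/-- Ind-smoothness at a field-valued point generated by fractions. -/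
theorem indSmooth_point (hreg : _root_.CAlg.IsRegularHom R Λ) {K : Type u} [Field K] [Algebra R K]
    (hK : ∀ x : K, ∃ a b : R, algebraMap R K b ≠ 0 ∧ x * algebraMap R K b = algebraMap R K a) :
    _root_.Smoothing.IndSmooth K (K ⊗[R] Λ) := by
  let p := RingHom.ker (algebraMap R K)
  have hp : p.IsPrime := RingHom.ker_isPrime _
  let f : p.ResidueField →ₐ[R] K := Ideal.ResidueField.liftₐ p (Algebra.ofId R K) le_rfl
    (fun x hx => isUnit_iff_ne_zero.2 hx)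
  have hf : Function.Bijective f := by
    refine ⟨f.toRingHom.injective, fun x => ?_⟩
    obtain ⟨a, b, hb, hab⟩ := hK x
    refine ⟨algebraMap R p.ResidueField a / algebraMap R p.ResidueField b, ?_⟩
    rw [map_div₀, AlgHom.commutes, AlgHom.commutes, div_eq_iff hb, hab]
  have := (hreg.2 p).1
  let e := AlgEquiv.ofBijective f hf
  refine Nilpotent.indSmooth_congr e.toRingEquiv (Algebra.TensorProduct.congr e AlgEquiv.refl).toRingEquiv
    (fun c => ?_) (Field.indSmooth (hreg.2 p).2)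
  show Algebra.TensorProduct.congr e AlgEquiv.refl (c ⊗ₜ[R] (1 : Λ)) = f c ⊗ₜ 1
  simp [e]

/-- The quotient of the localized algebra at a maximal ideal of the localized base is ind-smooth. -/
theorem indSmooth_quotient (I : Ideal R) (S : Submonoid (R ⧸ I)) {Q ΛQ : Type u} [CommRing Q] [Algebra (R ⧸ I) Q]
  [IsLocalization S Q] [CommRing ΛQ] [Algebra (Λ ⧸ I.map (algebraMap R Λ)) ΛQ] [Algebra (R ⧸ I) ΛQ]
  [IsScalarTower (R ⧸ I) (Λ ⧸ I.map (algebraMap R Λ)) ΛQ]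
  [IsLocalization (Algebra.algebraMapSubmonoid (Λ ⧸ I.map (algebraMap R Λ)) S) ΛQ]
  [Algebra Q ΛQ] [IsScalarTower (R ⧸ I) Q ΛQ]
    (hreg : _root_.CAlg.IsRegularHom R Λ) (m : Ideal Q) [m.IsMaximal] :
    _root_.Smoothing.IndSmooth (Q ⧸ m) (ΛQ ⧸ m.map (algebraMap Q ΛQ)) := by
  let _ := Ideal.Quotient.field m
  let Λ₁ := Λ ⧸ I.map (algebraMap R Λ)
  let ρ : R →+* Q ⧸ m :=
    (Ideal.Quotient.mk m).comp ((algebraMap (R ⧸ I) Q).comp (Ideal.Quotient.mk I))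
  let _ : Algebra R (Q ⧸ m) := ρ.toAlgebra
  let mQ := Ideal.Quotient.mk m
  let N := m.map (algebraMap Q ΛQ)
  let _ : Algebra R (ΛQ ⧸ N) :=
    ((algebraMap (Q ⧸ m) (ΛQ ⧸ N)).comp ρ).toAlgebra
  have : IsScalarTower R (Q ⧸ m) (ΛQ ⧸ N) := IsScalarTower.of_algebraMap_eq fun _ => rfl
  have hbase : ∀ r : R, algebraMap R (ΛQ ⧸ N) r =
      Ideal.Quotient.mk N (algebraMap Λ₁ ΛQ (Ideal.Quotient.mk _ (algebraMap R Λ r))) := fun r => by
    show Ideal.Quotient.mk N (algebraMap Q ΛQ (algebraMap (R ⧸ I) Q (Ideal.Quotient.mk I r))) = _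
    rw [← IsScalarTower.algebraMap_apply, IsScalarTower.algebraMap_apply (R ⧸ I) Λ₁ ΛQ]
    rfl
  let jΛ : Λ →ₐ[R] ΛQ ⧸ N :=
    { (Ideal.Quotient.mk N).comp ((algebraMap Λ₁ ΛQ).comp (Ideal.Quotient.mk (I.map (algebraMap R Λ)))) with
      commutes' := fun r => (hbase r).symm }
  let F : (Q ⧸ m) ⊗[R] Λ →ₐ[Q ⧸ m] ΛQ ⧸ N :=
    Algebra.TensorProduct.lift (Algebra.ofId (Q ⧸ m) (ΛQ ⧸ N)) jΛ fun _ _ => Commute.all _ _
  -- the inverse
  let ψ₀ : Λ₁ →+* (Q ⧸ m) ⊗[R] Λ :=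
    Ideal.Quotient.lift _ (Algebra.TensorProduct.includeRight : Λ →ₐ[R] (Q ⧸ m) ⊗[R] Λ).toRingHom
      fun z hz => by
        refine (Ideal.map_le_iff_le_comap (K := RingHom.ker (Algebra.TensorProduct.includeRight :
          Λ →ₐ[R] (Q ⧸ m) ⊗[R] Λ).toRingHom)).2 ?_ hz
        intro r hr
        show (Algebra.TensorProduct.includeRight : Λ →ₐ[R] (Q ⧸ m) ⊗[R] Λ) (algebraMap R Λ r) = 0
        rw [AlgHom.commutes, IsScalarTower.algebraMap_apply R (Q ⧸ m) ((Q ⧸ m) ⊗[R] Λ),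
          show algebraMap R (Q ⧸ m) r = mQ (algebraMap (R ⧸ I) Q (Ideal.Quotient.mk I r)) from rfl,
          Ideal.Quotient.eq_zero_iff_mem.2 hr, map_zero, map_zero, map_zero]
  have hψ₀ : ∀ t, ψ₀ (algebraMap (R ⧸ I) Λ₁ t) =
      algebraMap (Q ⧸ m) ((Q ⧸ m) ⊗[R] Λ) (mQ (algebraMap (R ⧸ I) Q t)) := fun t => by
    obtain ⟨r, rfl⟩ := Ideal.Quotient.mk_surjective t
    show (Algebra.TensorProduct.includeRight : Λ →ₐ[R] (Q ⧸ m) ⊗[R] Λ) (algebraMap R Λ r) = _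
    rw [AlgHom.commutes, IsScalarTower.algebraMap_apply R (Q ⧸ m) ((Q ⧸ m) ⊗[R] Λ)]
    rfl
  have hu : ∀ s : Algebra.algebraMapSubmonoid Λ₁ S, IsUnit (ψ₀ s) := by
    rintro ⟨_, s, hs, rfl⟩
    show IsUnit (ψ₀ (algebraMap (R ⧸ I) Λ₁ s))
    rw [hψ₀]
    exact ((IsLocalization.map_units Q (⟨s, hs⟩ : S)).map mQ).map _
  let ψ : ΛQ →+* (Q ⧸ m) ⊗[R] Λ := IsLocalization.lift hu
  have hψQ : ∀ x : Q, ψ (algebraMap Q ΛQ x) = algebraMap (Q ⧸ m) ((Q ⧸ m) ⊗[R] Λ) (mQ x) := fun x => by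
    suffices ψ.comp (algebraMap Q ΛQ) = (algebraMap (Q ⧸ m) ((Q ⧸ m) ⊗[R] Λ)).comp mQ from
      RingHom.congr_fun this x
    refine IsLocalization.ringHom_ext S (RingHom.ext fun t => ?_)
    show ψ (algebraMap Q ΛQ (algebraMap (R ⧸ I) Q t)) = _
    rw [← IsScalarTower.algebraMap_apply, IsScalarTower.algebraMap_apply (R ⧸ I) Λ₁ ΛQ,
      IsLocalization.lift_eq, hψ₀]
    rfl
  let G : (ΛQ ⧸ N) →+* (Q ⧸ m) ⊗[R] Λ := Ideal.Quotient.lift N ψ fun z hz => by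
    refine (Ideal.map_le_iff_le_comap (K := RingHom.ker ψ)).2 ?_ hz
    intro x hx
    show ψ (algebraMap Q ΛQ x) = 0
    rw [hψQ, Ideal.Quotient.eq_zero_iff_mem.2 hx, map_zero]
  have hGF : ∀ z, G (F z) = z := fun z => by
    induction z using TensorProduct.induction_on with
    | zero => simp only [map_zero]
    | add a b ha hb => simp only [map_add, ha, hb]
    | tmul c l =>
      obtain ⟨c, rfl⟩ := Ideal.Quotient.mk_surjective c
      show G (Ideal.Quotient.mk N (algebraMap Q ΛQ c) *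
        Ideal.Quotient.mk N (algebraMap Λ₁ ΛQ (Ideal.Quotient.mk _ l))) = _
      rw [← map_mul (Ideal.Quotient.mk N)]
      show ψ (algebraMap Q ΛQ c * _) = _
      rw [map_mul, hψQ, IsLocalization.lift_eq]
      show algebraMap (Q ⧸ m) ((Q ⧸ m) ⊗[R] Λ) (mQ c) * ((1 : Q ⧸ m) ⊗ₜ[R] l) = _
      rw [Algebra.TensorProduct.algebraMap_apply, Algebra.algebraMap_self, RingHom.id_apply,
        Algebra.TensorProduct.tmul_mul_tmul, one_mul, mul_one]
  have hFG : ∀ z, F (G z) = z := fun z => by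
    obtain ⟨z, rfl⟩ := Ideal.Quotient.mk_surjective z
    suffices F.toRingHom.comp ψ = Ideal.Quotient.mk N from RingHom.congr_fun this z
    refine IsLocalization.ringHom_ext (Algebra.algebraMapSubmonoid Λ₁ S) (RingHom.ext fun l => ?_)
    show F (ψ (algebraMap Λ₁ ΛQ l)) = _
    rw [IsLocalization.lift_eq]
    obtain ⟨l, rfl⟩ := Ideal.Quotient.mk_surjective l
    show Algebra.TensorProduct.lift (Algebra.ofId (Q ⧸ m) (ΛQ ⧸ N)) jΛ _ ((1 : Q ⧸ m) ⊗ₜ l) = _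
    rw [Algebra.TensorProduct.lift_tmul, map_one, one_mul]
    rfl
  let E : (Q ⧸ m) ⊗[R] Λ ≃+* ΛQ ⧸ N :=
    { F.toRingHom with invFun := G, left_inv := hGF, right_inv := hFG }
  refine Nilpotent.indSmooth_congr (RingEquiv.refl (Q ⧸ m)) E (fun c => F.commutes c)
    (indSmooth_point hreg fun x => ?_)
  obtain ⟨x, rfl⟩ := Ideal.Quotient.mk_surjective x
  obtain ⟨⟨a, s⟩, hxs⟩ := IsLocalization.surj S x
  obtain ⟨a, rfl⟩ := Ideal.Quotient.mk_surjective a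
  obtain ⟨b, hb⟩ := Ideal.Quotient.mk_surjective (s : R ⧸ I)
  refine ⟨a, b, ?_, ?_⟩
  · show mQ (algebraMap (R ⧸ I) Q (Ideal.Quotient.mk I b)) ≠ 0
    rw [hb]
    exact ((IsLocalization.map_units Q s).map mQ).ne_zero
  · show mQ x * mQ (algebraMap (R ⧸ I) Q (Ideal.Quotient.mk I b)) = _
    rw [hb, ← map_mul, hxs]
    rfl

end Groth.Agent.Lib.Smoothing.Popescu.Fibre
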