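import Mathlib.RingTheory.Smooth.Pi
import Mathlib.RingTheory.Etale.Pi
import Mathlib.RingTheory.Localization.Away.Lemmas
import Mathlib.RingTheory.Artinian.Ring
import Mathlib.RingTheory.SimpleModule.Basic
import Groth.Prelude.Def_Smoothing

/-!
# Ind-smoothness over a reduced Artinian ring
-/

universe u

open scoped TensorProduct

namespace Groth.Agent.Lib.Smoothing.Popescu.Product

theorem indSmooth_of_quotients {Q Λ : Type u} [CommRing Q] [IsArtinianRing Q] [IsReduced Q] [CommRing Λ]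
    [Algebra Q Λ]
    (h : ∀ (m : Ideal Q) [m.IsMaximal], _root_.Smoothing.IndSmooth (Q ⧸ m) (Λ ⧸ m.map (algebraMap Q Λ))) :
    _root_.Smoothing.IndSmooth Q Λ := by
  classical
  intro A _ _ hA f
  have : IsSemisimpleRing Q := IsArtinianRing.isSemisimpleRing_of_isReduced Q
  let ι := MaximalSpectrum Q
  let J : ι → Ideal Λ := fun m => m.asIdeal.map (algebraMap Q Λ)
  have hmax : ∀ m m' : ι, m ≠ m' → IsCoprime m.asIdeal m'.asIdeal := fun m m' hne =>
    Ideal.isCoprime_iff_sup_eq.2 (m.isMaximal.coprime_of_ne m'.isMaximal fun h' => hne (MaximalSpectrum.ext h'))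
  have hcop : Pairwise (Function.onFun IsCoprime J) := fun m m' hne => by
    show IsCoprime (J m) (J m')
    rw [Ideal.isCoprime_iff_sup_eq, ← Ideal.map_sup, Ideal.isCoprime_iff_sup_eq.1 (hmax m m' hne), Ideal.map_top]
  have hinf : ∀ z : Λ, (∀ m, z ∈ J m) → z = 0 := by
    intro z hz
    have hann : ∀ m : ι, ∃ e : Q, e ∉ m.asIdeal ∧ algebraMap Q Λ e * z = 0 := fun m => by
      obtain ⟨e, he, hme⟩ := IsSemisimpleRing.ideal_eq_span_idempotent m.asIdeal
      refine ⟨1 - e, fun h' => m.isMaximal.ne_top ((Ideal.eq_top_iff_one _).2 ?_), ?_⟩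
      · simpa using m.asIdeal.add_mem h' (hme.ge (Ideal.mem_span_singleton_self e))
      · have h1 := hz m
        rw [show J m = Ideal.span {algebraMap Q Λ e} by
          show m.asIdeal.map _ = _
          rw [hme, Ideal.map_span, Set.image_singleton]] at h1
        obtain ⟨c, rfl⟩ := Ideal.mem_span_singleton'.1 h1
        have h2 : algebraMap Q Λ (1 - e) * algebraMap Q Λ e = 0 := by
          rw [← map_mul, sub_mul, one_mul, he.eq, sub_self, map_zero]
        linear_combination c * h2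
    let Ann : Ideal Q :=
      { carrier := {q | algebraMap Q Λ q * z = 0}
        add_mem' := fun {a b} (ha : _ = 0) (hb : _ = 0) => by
          show algebraMap Q Λ (a + b) * z = 0
          rw [map_add, add_mul, ha, hb, add_zero]
        zero_mem' := by show algebraMap Q Λ 0 * z = 0; rw [map_zero, zero_mul]
        smul_mem' := fun c x (hx : _ = 0) => by
          show algebraMap Q Λ (c * x) * z = 0
          rw [map_mul, mul_assoc, hx, mul_zero] }
    have htop : Ann = ⊤ := by
      by_contra hne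
      obtain ⟨M, hM, hle⟩ := Ideal.exists_le_maximal Ann hne
      obtain ⟨e, he, hez⟩ := hann ⟨M, hM⟩
      exact he (hle hez)
    have h1 : algebraMap Q Λ 1 * z = 0 := (Ideal.eq_top_iff_one Ann).1 htop
    rwa [map_one, one_mul] at h1
  have hfac : ∀ m : ι, ∃ (B : Type u) (_ : CommRing B) (_ : Algebra (Q ⧸ m.asIdeal) B),
      Algebra.Smooth (Q ⧸ m.asIdeal) B ∧
        ∃ (g : ((Q ⧸ m.asIdeal) ⊗[Q] A) →ₐ[Q ⧸ m.asIdeal] B) (k : B →ₐ[Q ⧸ m.asIdeal] Λ ⧸ J m),
          ∀ a, k (g (1 ⊗ₜ a)) = Ideal.Quotient.mk (J m) (f a) := by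
    intro m
    let fm : (Q ⧸ m.asIdeal) ⊗[Q] A →ₐ[Q ⧸ m.asIdeal] Λ ⧸ J m :=
      Algebra.TensorProduct.lift (Algebra.ofId _ _) ((Ideal.Quotient.mkₐ Q (J m)).comp f)
        fun _ _ => Commute.all _ _
    obtain ⟨B, _, _, hB, g, k, hgk⟩ := @h m.asIdeal m.isMaximal _ _ _ inferInstance fm
    refine ⟨B, inferInstance, inferInstance, hB, g, k, fun a => ?_⟩
    rw [show k (g (1 ⊗ₜ a)) = fm (1 ⊗ₜ a) from DFunLike.congr_fun hgk _]
    show Algebra.TensorProduct.lift _ _ _ _ = _
    rw [Algebra.TensorProduct.lift_tmul, map_one, one_mul]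
    rfl
  choose B iB jB hB g k hgk using hfac
  let _ : ∀ m, CommRing (B m) := iB
  let _ : ∀ m, Algebra (Q ⧸ m.asIdeal) (B m) := jB
  let _ : ∀ m, Algebra Q (B m) := fun m =>
    ((algebraMap (Q ⧸ m.asIdeal) (B m)).comp (Ideal.Quotient.mk m.asIdeal)).toAlgebra
  have : ∀ m, IsScalarTower Q (Q ⧸ m.asIdeal) (B m) := fun m => IsScalarTower.of_algebraMap_eq' rfl
  have hsmB : ∀ m, Algebra.Smooth Q (B m) := fun m => by
    obtain ⟨e, he, hme⟩ := IsSemisimpleRing.ideal_eq_span_idempotent m.asIdeal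
    have : IsLocalization.Away (1 - e) (Q ⧸ m.asIdeal) :=
      IsLocalization.away_of_isIdempotentElem he.one_sub (by
        rw [Ideal.Quotient.algebraMap_eq, Ideal.mk_ker, sub_sub_cancel]; exact hme)
        Ideal.Quotient.mk_surjective
    have : Algebra.Smooth Q (Q ⧸ m.asIdeal) := Algebra.Smooth.of_isLocalization_Away (1 - e)
    have := hB m
    exact Algebra.Smooth.comp Q (Q ⧸ m.asIdeal) (B m)
  let P : Λ →ₐ[Q] ((m : ι) → Λ ⧸ J m) := Pi.algHom Q _ fun m => Ideal.Quotient.mkₐ Q (J m)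
  have hP : Function.Bijective P := by
    refine ⟨(injective_iff_map_eq_zero P).2 fun z hz => hinf z fun m =>
      Ideal.Quotient.eq_zero_iff_mem.1 (congrFun hz m), fun w => ?_⟩
    obtain ⟨z, hz⟩ := Ideal.pi_quotient_surjective hcop w
    exact ⟨z, funext hz⟩
  let eP := AlgEquiv.ofBijective P hP
  refine ⟨(m : ι) → B m, inferInstance, inferInstance, ⟨inferInstance, inferInstance⟩,
    Pi.algHom Q _ fun m => ((g m).restrictScalars Q).comp Algebra.TensorProduct.includeRight,
    eP.symm.toAlgHom.comp (Pi.algHom Q _ fun m => ((k m).restrictScalars Q).comp (Pi.evalAlgHom Q B m)), ?_⟩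
  refine AlgHom.ext fun a => eP.injective ?_
  show eP (eP.symm _) = _
  rw [AlgEquiv.apply_symm_apply]
  exact funext fun m => hgk m a

end Groth.Agent.Lib.Smoothing.Popescu.Product
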