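import Groth.Agent.Lib.Smoothing.Popescu.Descend
import Groth.Agent.Lib.Smoothing.Popescu.Fibre
import Groth.Agent.Lib.Smoothing.Popescu.Product
import Groth.Agent.Lib.Smoothing.Char.Core
import Groth.Agent.S2022
import Mathlib.RingTheory.HopkinsLevitzki
import Mathlib.RingTheory.Flat.TorsionFree
import Mathlib.RingTheory.LocalProperties.Reduced
import Mathlib.RingTheory.Ideal.MinimalPrime.Noetherian

/-!
# Popescu's theorem
-/

universe u

open scoped TensorProduct nonZeroDivisors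

namespace Groth.Agent.Lib.Smoothing.Popescu.Main

theorem flat_quotient {P S : Type u} [CommRing P] [CommRing S] [Algebra P S] [Module.Flat P S]
    (K : Ideal P) : Module.Flat (P ⧸ K) (S ⧸ K.map (algebraMap P S)) :=
  Char.Core.flat_quotient K

/-- The total fraction ring of a reduced Noetherian ring is Artinian. -/
theorem isArtinianRing_fractions (R Q : Type u) [CommRing R] [IsNoetherianRing R] [IsReduced R] [CommRing Q]
    [Algebra R Q] [IsLocalization R⁰ Q] : IsArtinianRing Q := by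
  have : IsNoetherianRing Q := IsLocalization.isNoetherianRing R⁰ Q inferInstance
  have hmin : ∀ P : Ideal Q, P.IsPrime → P.comap (algebraMap R Q) ∈ minimalPrimes R := by
    intro P hP
    have hdis : ∀ x ∈ P.comap (algebraMap R Q), x ∉ R⁰ := fun x hx hx' =>
      hP.ne_top (Ideal.eq_top_of_isUnit_mem _ hx (IsLocalization.map_units Q (⟨x, hx'⟩ : R⁰)))
    have hsub : ((P.comap (algebraMap R Q) : Ideal R) : Set R) ⊆ ⋃ p ∈ (minimalPrimes R), (p : Set R) := by
      intro x hx
      have h1 := hdis x hx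
      rw [mem_nonZeroDivisors_iff_right] at h1
      push Not at h1
      obtain ⟨y, hy, hy0⟩ := h1
      obtain ⟨p, hp, hyp⟩ : ∃ p ∈ minimalPrimes R, y ∉ p := by
        by_contra! hcon
        refine hy0 ?_
        have h2 : y ∈ sInf (minimalPrimes R) := Submodule.mem_sInf.2 hcon
        rw [minimalPrimes, Ideal.sInf_minimalPrimes] at h2
        obtain ⟨n, hn⟩ := h2
        exact IsReduced.eq_zero y ⟨n, (Submodule.mem_bot R).1 hn⟩
      have hmem : y * x ∈ p := by
        rw [hy]; exact p.zero_mem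
      exact Set.mem_iUnion₂.2 ⟨p, hp, ((hp.1.1.mem_or_mem hmem).resolve_left hyp)⟩
    have hfin := minimalPrimes.finite_of_isNoetherianRing R
    rw [show (⋃ p ∈ minimalPrimes R, (p : Set R)) = ⋃ p ∈ (hfin.toFinset : Set (Ideal R)), (p : Set R) by
      rw [Set.Finite.coe_toFinset]] at hsub
    obtain ⟨p, hp, hle⟩ := (Ideal.subset_union_prime ⊥ ⊥ (fun p hp _ _ =>
      (hfin.mem_toFinset.1 hp).1.1)).1 hsub
    have hp' := hfin.mem_toFinset.1 hp
    have hcp : (P.comap (algebraMap R Q)).IsPrime := Ideal.comap_isPrime _ _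
    rwa [le_antisymm hle (hp'.2 ⟨hcp, bot_le⟩ hle)]
  have : Ring.KrullDimLE 0 Q := Ring.KrullDimLE.mk₀ fun P hP => by
    obtain ⟨M, hM, hle⟩ := Ideal.exists_le_maximal P hP.ne_top
    have h1 : P.comap (algebraMap R Q) = M.comap (algebraMap R Q) :=
      le_antisymm (Ideal.comap_mono hle)
        ((hmin M hM.isPrime).2 ⟨Ideal.comap_isPrime _ _, bot_le⟩ (Ideal.comap_mono hle))
    have h2 : P = M := (IsLocalization.map_comap R⁰ Q P).symm.trans
      ((congrArg (Ideal.map (algebraMap R Q)) h1).trans (IsLocalization.map_comap R⁰ Q M))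
    exact h2 ▸ hM
  exact IsNoetherianRing.isArtinianRing_of_krullDimLE_zero

set_option maxHeartbeats 1600000 in
/-- The reduced case. -/
theorem indSmooth_reduced {R Λ : Type u} [CommRing R] [CommRing Λ] [Algebra R Λ] [IsNoetherianRing R]
    [Nontrivial R] [Module.Flat R Λ]
    (Q ΛQ : Type u) [CommRing Q] [Algebra R Q] [IsLocalization R⁰ Q] [CommRing ΛQ] [Algebra Λ ΛQ]
    [Algebra R ΛQ] [IsScalarTower R Λ ΛQ] [IsLocalization (Algebra.algebraMapSubmonoid Λ R⁰) ΛQ]
    [Algebra Q ΛQ] [IsScalarTower R Q ΛQ] (hQ : _root_.Smoothing.IndSmooth Q ΛQ)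
    (ih : ∀ x : R, x ≠ 0 → ∀ K : Ideal R, K = Ideal.span {x} →
      _root_.Smoothing.IndSmooth (R ⧸ K) (Λ ⧸ K.map (algebraMap R Λ))) :
    _root_.Smoothing.IndSmooth R Λ := by
  classical
  intro A _ _ hA φ
  -- factor over the localization
  let fQ : Q ⊗[R] A →ₐ[Q] ΛQ := Algebra.TensorProduct.lift (Algebra.ofId Q ΛQ)
    ((IsScalarTower.toAlgHom R Λ ΛQ).comp φ) fun _ _ => Commute.all _ _
  obtain ⟨B', _, _, hB', g', h', hgh'⟩ := hQ (Q ⊗[R] A) inferInstance fQ
  let _ : Algebra R B' := ((algebraMap Q B').comp (algebraMap R Q)).toAlgebra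
  have : IsScalarTower R Q B' := IsScalarTower.of_algebraMap_eq' rfl
  obtain ⟨C, _, _, hC, α, β, hαβ, s, hs, hsC⟩ := Descend.exists_descended R⁰ φ
    ((g'.restrictScalars R).comp Algebra.TensorProduct.includeRight) h' (fun a => by
      show h' (g' (1 ⊗ₜ a)) = _
      rw [show h' (g' (1 ⊗ₜ a)) = fQ (1 ⊗ₜ a) from DFunLike.congr_fun hgh' _]
      simp [fQ, IsScalarTower.coe_toAlgHom'])
  obtain ⟨D, _, _, ι, ret, M, hD, hret, hM0, hstd, -⟩ :=
    StrictRetract.exists_retract (R := R) (fun _ : Fin 1 => algebraMap R C s) (fun _ => hsC)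
  let φD : D →ₐ[R] Λ := β.comp ret
  let p : R := s ^ M
  have hp : p ∈ R⁰ := pow_mem hs M
  have hpR : ∀ z : R, p * z = 0 → z = 0 := fun z hz =>
    (mem_nonZeroDivisors_iff_right.1 hp) z (by rw [mul_comm]; exact hz)
  have hpΛ : ∀ z : Λ, algebraMap R Λ p * z = 0 → z = 0 := fun z hz => by
    exact (Module.Flat.isSMulRegular_of_nonZeroDivisors (M := Λ) hp).right_eq_zero_of_smul
      (by rwa [Algebra.smul_def])
  let K : Ideal R := Ideal.span (Set.range fun _ : Fin 1 => p ^ 8)
  have hind : _root_.Smoothing.IndSmooth (R ⧸ K) (Λ ⧸ K.map (algebraMap R Λ)) :=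
    ih (p ^ 8) (nonZeroDivisors.ne_zero (pow_mem hp 8)) K (by simp [K, Set.range_const])
  let J : Ideal Λ := K.map (algebraMap R Λ)
  let φK : (D ⧸ K.map (algebraMap R D)) →ₐ[R ⧸ K] (Λ ⧸ J) :=
    { Ideal.Quotient.lift (K.map (algebraMap R D))
        ((Ideal.Quotient.mk J).comp φD.toRingHom) (fun z hz => by
          refine (Ideal.map_le_iff_le_comap (K := RingHom.ker ((Ideal.Quotient.mk J).comp φD.toRingHom))).2
            ?_ hz
          intro t ht
          show Ideal.Quotient.mk J (φD (algebraMap _ D t)) = 0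
          rw [AlgHom.commutes, Ideal.Quotient.eq_zero_iff_mem]
          exact Ideal.mem_map_of_mem _ ht) with
      commutes' := fun t => by
        obtain ⟨t, rfl⟩ := Ideal.Quotient.mk_surjective t
        show Ideal.Quotient.mk J (φD (algebraMap _ D t)) = Ideal.Quotient.mk J (algebraMap R Λ t)
        rw [AlgHom.commutes] }
  have hDK : Algebra.FinitePresentation (R ⧸ K) (D ⧸ K.map (algebraMap R D)) := by
    have : Algebra.FinitePresentation R (D ⧸ K.map (algebraMap R D)) :=
      Algebra.FinitePresentation.quotient (Ideal.FG.map (IsNoetherian.noetherian K) _)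
    exact Algebra.FinitePresentation.of_restrict_scalars_finitePresentation R (R ⧸ K) _
  obtain ⟨B₀, _, _, hB₀, g₀, h₀, hgh₀⟩ := hind (D ⧸ K.map (algebraMap R D)) hDK φK
  let _ : Algebra R B₀ := ((algebraMap (R ⧸ K) B₀).comp (Ideal.Quotient.mk K)).toAlgebra
  have : IsScalarTower R (R ⧸ K) B₀ := IsScalarTower.of_algebraMap_eq' rfl
  have hKeq : J = Ideal.span (Set.range fun _ : Fin 1 => algebraMap R Λ p ^ 8) := by
    show Ideal.map _ (Ideal.span _) = _
    rw [Ideal.map_span, ← Set.range_comp]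
    simp [Function.comp_def]
  have hstd' : ∀ _i : Fin 1, _root_.Smoothing.IsStrictlyStandard R D (algebraMap R D p) := fun i => by
    have h1 := hstd i
    rwa [AlgHom.commutes, ← map_pow] at h1
  have hemp : ∀ i : Fin 1, IsEmpty {j : Fin 1 // (j : ℕ) < (i : ℕ)} := fun i => ⟨fun j => by
    have := j.2; omega⟩
  obtain ⟨B, _, _, hB, α', β', hαβ', hπB, hsing⟩ := DesingularizeIter.exists_iterated 1 (R := R)
    (R' := R ⧸ K) (Λ := Λ) (C := B₀) (fun _ => p) Ideal.Quotient.mk_surjective Ideal.mk_ker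
    (fun i z hz => by
      obtain ⟨z, rfl⟩ := Ideal.Quotient.mk_surjective z
      rw [← map_pow (Ideal.Quotient.mk _), ← map_mul (Ideal.Quotient.mk _), Ideal.Quotient.eq_zero_iff_mem] at hz
      rw [← map_mul (Ideal.Quotient.mk _), Ideal.Quotient.eq_zero_iff_mem]
      have := hemp i
      rw [Set.range_eq_empty, Ideal.span_empty, Submodule.mem_bot] at hz ⊢
      rw [pow_two, mul_assoc] at hz
      exact hpR _ hz)
    (fun i z hz => by
      obtain ⟨z, rfl⟩ := Ideal.Quotient.mk_surjective z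
      rw [← map_pow (Ideal.Quotient.mk _), ← map_mul (Ideal.Quotient.mk _), Ideal.Quotient.eq_zero_iff_mem] at hz
      rw [← map_mul (Ideal.Quotient.mk _), Ideal.Quotient.eq_zero_iff_mem]
      have := hemp i
      rw [Set.range_eq_empty, Ideal.span_empty, Submodule.mem_bot] at hz ⊢
      rw [pow_two, mul_assoc] at hz
      exact hpΛ _ hz)
    φD hstd' ((g₀.restrictScalars R).comp (Ideal.Quotient.mkₐ R _))
    ((Ideal.quotientEquivAlgOfEq R hKeq).toAlgHom.comp (h₀.restrictScalars R)) (fun a => by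
      show Ideal.quotientEquivAlgOfEq R hKeq (h₀ (g₀ (Ideal.Quotient.mk _ a))) = _
      rw [show h₀ (g₀ (Ideal.Quotient.mk _ a)) = φK (Ideal.Quotient.mk _ a) from DFunLike.congr_fun hgh₀ _]
      exact Ideal.quotientEquivAlgOfEq_mk R hKeq (φD a))
  have htop : _root_.Smoothing.singRad R β' = ⊤ := by
    have h1 : _root_.Smoothing.singularIdeal (R ⧸ K) B₀ = ⊤ :=
      (Ideal.eq_top_iff_one _).2 (SingularComp.mem_singularIdeal_iff.2 fun P _ _ =>
        ResolveDimZero.isSmoothAt_of_smooth P)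
    rw [h1, Ideal.map_top, top_le_iff] at hsing
    have h2 := congrArg (Ideal.comap (Ideal.Quotient.mk _)) hsing
    rw [Ideal.comap_map_of_surjective' _ Ideal.Quotient.mk_surjective, Ideal.mk_ker, Ideal.comap_top] at h2
    refine top_le_iff.1 (h2.ge.trans (sup_le le_rfl (Ideal.span_le.2 ?_)))
    rintro _ ⟨i, rfl⟩
    exact Ideal.pow_mem_of_mem _ (hπB i) 8 (by norm_num)
  obtain ⟨E, _, _, hE, u, v, huv⟩ := DVR.exists_smooth_factor β' (Ideal.radical_eq_top.1 htop)
  refine ⟨E, inferInstance, inferInstance, hE, ((u.comp α').comp ι).comp α, v, ?_⟩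
  rw [← hαβ]
  have hrB : φD.comp ι = β := by
    show (β.comp ret).comp ι = β
    rw [AlgHom.comp_assoc, hret, AlgHom.comp_id]
  simp only [← AlgHom.comp_assoc, huv, hαβ', hrB]

theorem indSmooth_of_ge {R Λ : Type u} [CommRing R] [CommRing Λ] [Algebra R Λ] {I I' : Ideal R}
    (hle : I ≤ I')
    (h : _root_.Smoothing.IndSmooth (R ⧸ I') (Λ ⧸ I'.map (algebraMap R Λ))) (J : Ideal (R ⧸ I))
    (hJ : J = I'.map (Ideal.Quotient.mk I)) :
    _root_.Smoothing.IndSmooth ((R ⧸ I) ⧸ J)
      ((Λ ⧸ I.map (algebraMap R Λ)) ⧸ J.map (algebraMap (R ⧸ I) (Λ ⧸ I.map (algebraMap R Λ)))) := by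
  subst hJ
  have hmJ : (I'.map (Ideal.Quotient.mk I)).map (algebraMap (R ⧸ I) (Λ ⧸ I.map (algebraMap R Λ))) =
      (I'.map (algebraMap R Λ)).map (Ideal.Quotient.mk (I.map (algebraMap R Λ))) := by
    rw [Ideal.map_map, Ideal.map_map]
    rfl
  refine Nilpotent.indSmooth_congr (DoubleQuot.quotQuotEquivQuotOfLE hle).symm
    ((DoubleQuot.quotQuotEquivQuotOfLE (Ideal.map_mono hle)).symm.trans (Ideal.quotEquivOfEq hmJ.symm))
    (fun c => ?_) h
  obtain ⟨c, rfl⟩ := Ideal.Quotient.mk_surjective c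
  rfl

theorem indSmooth_quotient {R Λ : Type u} [CommRing R] [IsNoetherianRing R] [CommRing Λ] [Algebra R Λ]
    (hreg : _root_.CAlg.IsRegularHom R Λ) (I : Ideal R) :
    _root_.Smoothing.IndSmooth (R ⧸ I) (Λ ⧸ I.map (algebraMap R Λ)) := by
  classical
  induction I using (wellFounded_gt (α := Ideal R)).induction with
  | _ I ih =>
    have : Module.Flat R Λ := hreg.1
    have := flat_quotient (S := Λ) I
    by_cases htop : I = ⊤
    · intro A _ _ _ f
      have : Subsingleton (R ⧸ I) := Ideal.Quotient.subsingleton_iff.2 htop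
      have : Subsingleton A := Module.subsingleton (R ⧸ I) A
      have : Algebra.Smooth (R ⧸ I) (R ⧸ I) := ⟨inferInstance, inferInstance⟩
      exact ⟨A, inferInstance, inferInstance, Algebra.Smooth.of_equiv
        (AlgEquiv.ofBijective (Algebra.ofId (R ⧸ I) A)
          ⟨fun _ _ _ => Subsingleton.elim _ _, fun y => ⟨0, Subsingleton.elim _ _⟩⟩),
        AlgHom.id _ A, f, AlgHom.comp_id f⟩
    by_cases hrad : I.radical = I
    swap
    · refine Groth.Agent.S2022.result (I.radical.map (Ideal.Quotient.mk I)) ?_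
        (indSmooth_of_ge Ideal.le_radical
          (ih I.radical (lt_of_le_of_ne Ideal.le_radical (Ne.symm hrad))) _ rfl)
      obtain ⟨n, hn⟩ := Ideal.exists_radical_pow_le_of_fg I (IsNoetherian.noetherian _)
      exact ⟨n, by rw [← Ideal.map_pow, Ideal.zero_eq_bot, Ideal.map_eq_bot_iff_le_ker, Ideal.mk_ker]; exact hn⟩
    have : IsReduced (R ⧸ I) := (Ideal.isRadical_iff_quotient_reduced I).1 (hrad.le)
    have : Nontrivial (R ⧸ I) := Ideal.Quotient.nontrivial_iff.2 htop
    let Λ₁ := Λ ⧸ I.map (algebraMap R Λ)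
    let S : Submonoid (R ⧸ I) := (R ⧸ I)⁰
    obtain ⟨Q, _, _, _⟩ : ∃ (Q : Type u) (_ : CommRing Q) (_ : Algebra (R ⧸ I) Q), IsLocalization S Q :=
      ⟨Localization S, inferInstance, inferInstance, inferInstance⟩
    obtain ⟨ΛQ, _, _, _, _, _⟩ : ∃ (ΛQ : Type u) (_ : CommRing ΛQ) (_ : Algebra Λ₁ ΛQ)
        (_ : Algebra (R ⧸ I) ΛQ) (_ : IsScalarTower (R ⧸ I) Λ₁ ΛQ),
        IsLocalization (Algebra.algebraMapSubmonoid Λ₁ S) ΛQ :=
      ⟨Localization (Algebra.algebraMapSubmonoid Λ₁ S), inferInstance, inferInstance, inferInstance,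
        inferInstance, inferInstance⟩
    have hu : ∀ s : S, IsUnit (algebraMap (R ⧸ I) ΛQ s) := fun s => by
      rw [IsScalarTower.algebraMap_apply (R ⧸ I) Λ₁ ΛQ]
      exact IsLocalization.map_units ΛQ
        (⟨algebraMap (R ⧸ I) Λ₁ s, s.1, s.2, rfl⟩ : Algebra.algebraMapSubmonoid Λ₁ S)
    let _ : Algebra Q ΛQ := (IsLocalization.lift (S := Q) hu).toAlgebra
    have : IsScalarTower (R ⧸ I) Q ΛQ :=
      IsScalarTower.of_algebraMap_eq fun z => (IsLocalization.lift_eq hu z).symm
    have : IsArtinianRing Q := isArtinianRing_fractions (R ⧸ I) Q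
    have : IsReduced Q := isReduced_localizationPreserves S Q inferInstance
    refine indSmooth_reduced Q ΛQ
      (Product.indSmooth_of_quotients fun m _ => Fibre.indSmooth_quotient I S hreg m) fun x hx K hK => ?_
    obtain ⟨x, rfl⟩ := Ideal.Quotient.mk_surjective x
    refine indSmooth_of_ge (I' := I ⊔ Ideal.span {x}) le_sup_left (ih _ (left_lt_sup.2 fun h =>
      hx (Ideal.Quotient.eq_zero_iff_mem.2 (h (Ideal.mem_span_singleton_self x))))) K ?_
    rw [hK, Ideal.map_sup, Ideal.map_quotient_self, bot_sup_eq, Ideal.map_span, Set.image_singleton]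

theorem indSmooth {R Λ : Type u} [CommRing R] [IsNoetherianRing R] [CommRing Λ] [Algebra R Λ]
    (hreg : _root_.CAlg.IsRegularHom R Λ) : _root_.Smoothing.IndSmooth R Λ := by
  refine Nilpotent.indSmooth_congr (RingEquiv.quotientBot R)
    ((Ideal.quotEquivOfEq (Ideal.map_bot (f := algebraMap R Λ))).trans (RingEquiv.quotientBot Λ))
    (fun c => ?_) (indSmooth_quotient hreg ⊥)
  obtain ⟨c, rfl⟩ := Ideal.Quotient.mk_surjective c
  rfl

end Groth.Agent.Lib.Smoothing.Popescu.Main
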