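import Groth.Agent.Lib.Smoothing.SingularComp
import Groth.Agent.Lib.Smoothing.Descend
import Mathlib.RingTheory.Etale.Basic
import Mathlib.RingTheory.Localization.Basic
import Mathlib.RingTheory.Ideal.MinimalPrime.Noetherian

/-!
# Descending a smooth factorization from a localization of the base
-/

universe u

open MvPolynomial
open scoped TensorProduct

namespace Groth.Agent.Lib.Smoothing.Popescu.Descend

theorem exists_descended {R A Λ Q ΛQ B' : Type u} [CommRing R] [IsNoetherianRing R] [CommRing A]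
    [Algebra R A] [Algebra.FinitePresentation R A] [CommRing Λ] [Algebra R Λ] (S : Submonoid R)
    [CommRing Q] [Algebra R Q] [IsLocalization S Q]
    [CommRing ΛQ] [Algebra Λ ΛQ] [Algebra R ΛQ] [IsScalarTower R Λ ΛQ]
    [IsLocalization (Algebra.algebraMapSubmonoid Λ S) ΛQ] [Algebra Q ΛQ] [IsScalarTower R Q ΛQ]
    [CommRing B'] [Algebra Q B'] [Algebra R B'] [IsScalarTower R Q B'] [Algebra.Smooth Q B']
    (φ : A →ₐ[R] Λ) (g : A →ₐ[R] B') (h : B' →ₐ[Q] ΛQ)
    (hgh : ∀ a, h (g a) = algebraMap Λ ΛQ (φ a)) :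
    ∃ (C : Type u) (_ : CommRing C) (_ : Algebra R C), Algebra.FinitePresentation R C ∧
      ∃ (α : A →ₐ[R] C) (β : C →ₐ[R] Λ), β.comp α = φ ∧
        ∃ s ∈ S, algebraMap R C s ∈ _root_.Smoothing.singularIdeal R C := by
  classical
  obtain ⟨n, φ', hφ', hfg'⟩ := (inferInstance : Algebra.FinitePresentation Q B').out
  obtain ⟨c, f, hf⟩ := Submodule.fg_iff_exists_fin_generating_family.1 hfg'
  -- generators with integral images
  obtain ⟨⟨σm, hσm⟩, hσh⟩ := IsLocalization.exist_integer_multiples_of_finite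
    (Algebra.algebraMapSubmonoid Λ S) fun i => h (φ' (X i))
  obtain ⟨σ, hσ, rfl⟩ := hσm
  choose a ha using hσh
  let x : Fin n → B' := fun i => algebraMap R B' σ * φ' (X i)
  have hax : ∀ i, algebraMap Λ ΛQ (a i) = h (x i) := fun i => by
    simp only [x, map_mul]
    rw [← AlgHom.restrictScalars_apply R h, AlgHom.commutes, ha, Algebra.smul_def]
    show algebraMap Λ ΛQ (algebraMap R Λ σ) * _ = _
    rw [← IsScalarTower.algebraMap_apply]
  let φx : MvPolynomial (Fin n) Q →ₐ[Q] B' := aeval x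
  let sc : MvPolynomial (Fin n) Q →ₐ[Q] MvPolynomial (Fin n) Q :=
    aeval fun i => C (algebraMap R Q σ) * X i
  have hsc : ∀ z, φ' (sc z) = φx z := fun z => by
    suffices φ'.comp sc = φx from DFunLike.congr_fun this z
    refine MvPolynomial.algHom_ext fun i => ?_
    simp only [sc, φx, x, AlgHom.comp_apply, aeval_X, map_mul, ← MvPolynomial.algebraMap_eq, AlgHom.commutes]
    rw [← IsScalarTower.algebraMap_apply]
  obtain ⟨σi, hσi⟩ := (IsLocalization.map_units Q (⟨σ, hσ⟩ : S)).exists_right_inv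
  let sc' : MvPolynomial (Fin n) Q →ₐ[Q] MvPolynomial (Fin n) Q := aeval fun i => C σi * X i
  have hscsc : ∀ z, sc (sc' z) = z := fun z => by
    suffices sc.comp sc' = AlgHom.id Q _ from DFunLike.congr_fun this z
    refine MvPolynomial.algHom_ext fun i => ?_
    simp only [sc, sc', AlgHom.comp_apply, aeval_X, map_mul, aeval_C, MvPolynomial.algebraMap_eq, AlgHom.id_apply]
    rw [← mul_assoc, ← C_mul, mul_comm σi, hσi, C_1, one_mul]
  have hφx : Function.Surjective φx := fun b => by
    obtain ⟨z, rfl⟩ := hφ' b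
    exact ⟨sc' z, by rw [← hsc, hscsc]⟩
  -- relations over `R`
  choose tF htF F hF using fun j => Smoothing.Descend.exists_map_eq_C_mul (R := R) S (sc' (f j))
  have hFx : ∀ j, aeval x (F j) = 0 := fun j => by
    have hz : φ' (f j) = 0 :=
      (hf.le (Ideal.subset_span ⟨j, rfl⟩) : f j ∈ RingHom.ker φ'.toRingHom)
    rw [show aeval x (F j) = φx (map (algebraMap R Q) (F j)) from (aeval_map_algebraMap Q _ _).symm,
      hF, map_mul, ← hsc (sc' (f j)), hscsc, hz, mul_zero]
  obtain ⟨r, φA, hφA, hAfg⟩ := ‹Algebra.FinitePresentation R A›.out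
  obtain ⟨mA, GA, hGA⟩ := Submodule.fg_iff_exists_fin_generating_family.1 hAfg
  have hGAA : ∀ l, φA (GA l) = 0 := fun l => hGA.le (Ideal.subset_span ⟨l, rfl⟩)
  choose P' hP' using fun k => hφx (g (φA (X k)))
  choose u hu pk hpk using fun k => Smoothing.Descend.exists_map_eq_C_mul (R := R) S (P' k)
  have hpw : ∀ k, aeval x (pk k) = algebraMap R B' (u k) * g (φA (X k)) := fun k => by
    rw [show aeval x (pk k) = φx (map (algebraMap R Q) (pk k)) from (aeval_map_algebraMap Q _ _).symm,
      hpk, map_mul, hP', ← MvPolynomial.algebraMap_eq, AlgHom.commutes, ← IsScalarTower.algebraMap_apply]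
  let ιΛ : Λ →ₐ[R] ΛQ := IsScalarTower.toAlgHom R Λ ΛQ
  let hR : B' →ₐ[R] ΛQ := h.restrictScalars R
  have haev : ∀ z, ιΛ (aeval a z) = hR (aeval x z) := fun z => by
    rw [comp_aeval_apply, comp_aeval_apply]
    congr 2
    exact funext hax
  have hkill : ∀ z : Λ, ιΛ z = 0 → ∃ m ∈ S, algebraMap R Λ m * z = 0 := fun z hz => by
    obtain ⟨⟨m, m', hm', rfl⟩, hm⟩ :=
      (IsLocalization.map_eq_zero_iff (Algebra.algebraMapSubmonoid Λ S) ΛQ z).1 hz
    exact ⟨m', hm', hm⟩
  choose mF hmF hmF' using fun j => hkill (aeval a (F j)) (by rw [haev, hFx, map_zero])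
  choose mP hmP hmP' using fun k =>
    hkill (algebraMap R Λ (u k) * φ (φA (X k)) - aeval a (pk k)) (by
      rw [map_sub, haev, hpw, map_mul, map_mul, AlgHom.commutes, AlgHom.commutes, sub_eq_zero]
      exact congrArg (_ * ·) (hgh _).symm)
  let μ : R := (∏ j, mF j) * ∏ k, mP k
  have hμS : μ ∈ S := mul_mem (prod_mem fun j _ => hmF j) (prod_mem fun k _ => hmP k)
  let rel : Fin c ⊕ Fin mA ⊕ Fin r → MvPolynomial (Fin n ⊕ Fin r) R :=
    Sum.elim (fun j => C μ * rename Sum.inl (F j)) (Sum.elim (fun l => rename Sum.inr (GA l))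
      fun k => C μ * (C (u k) * X (Sum.inr k) - rename Sum.inl (pk k)))
  let I : Ideal (MvPolynomial (Fin n ⊕ Fin r) R) := Ideal.span (Set.range rel)
  let Cc := MvPolynomial (Fin n ⊕ Fin r) R ⧸ I
  have : Algebra.FinitePresentation R Cc :=
    Algebra.FinitePresentation.quotient (Submodule.fg_span (Set.finite_range rel))
  let cm : MvPolynomial (Fin n ⊕ Fin r) R →ₐ[R] Cc := Ideal.Quotient.mkₐ R I
  have hrel : ∀ i, cm (rel i) = 0 := fun i =>
    Ideal.Quotient.eq_zero_iff_mem.2 (Ideal.subset_span ⟨i, rfl⟩)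
  have hAval : ∀ {T : Type u} [CommRing T] [Algebra R T] (ψ : A →ₐ[R] T) (z : MvPolynomial (Fin r) R),
      aeval (fun k => ψ (φA (X k))) z = ψ (φA z) := fun ψ z =>
    (DFunLike.congr_fun (aeval_unique (ψ.comp φA)) z).symm
  have hdesc : ∀ {T : Type u} [CommRing T] [Algebra R T] (v : Fin n → T) (ψ : A →ₐ[R] T),
      (∀ j, algebraMap R T μ * aeval v (F j) = 0) →
      (∀ k, algebraMap R T μ * (algebraMap R T (u k) * ψ (φA (X k)) - aeval v (pk k)) = 0) →
      ∀ z ∈ I, aeval (Sum.elim v fun k => ψ (φA (X k))) z = 0 := by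
    intro T _ _ v ψ h1 h2 z hz
    refine (Ideal.span_le (I := RingHom.ker
      (aeval (R := R) (Sum.elim v fun k => ψ (φA (X k)))))).2 ?_ hz
    rintro _ ⟨j | l | k, rfl⟩ <;>
      simp only [rel, SetLike.mem_coe, RingHom.mem_ker, Sum.elim_inl, Sum.elim_inr, map_sub, map_mul,
        aeval_C, aeval_X, aeval_rename, Sum.elim_comp_inl, Sum.elim_comp_inr]
    · exact h1 j
    · rw [hAval, hGAA, map_zero]
    · exact h2 k
  let β : Cc →ₐ[R] Λ := Ideal.Quotient.liftₐ I (aeval (Sum.elim a fun k => φ (φA (X k))))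
    (hdesc a φ (fun j => by
      simp only [μ]
      rw [← Finset.mul_prod_erase Finset.univ mF (Finset.mem_univ j), map_mul, map_mul]
      linear_combination (algebraMap R Λ (∏ x ∈ Finset.univ.erase j, mF x) * algebraMap R Λ (∏ k, mP k)) * hmF' j)
    (fun k => by
      simp only [μ]
      rw [← Finset.mul_prod_erase Finset.univ mP (Finset.mem_univ k), map_mul, map_mul]
      linear_combination (algebraMap R Λ (∏ j, mF j) * algebraMap R Λ (∏ x ∈ Finset.univ.erase k, mP x)) * hmP' k))
  let α : A →ₐ[R] Cc := AlgHom.liftOfSurjective φA hφA (cm.comp (rename Sum.inr)) (by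
    show RingHom.ker φA.toRingHom ≤ _
    rw [← hGA, Submodule.span_le]
    rintro _ ⟨l, rfl⟩
    exact hrel (.inr (.inl l)))
  refine ⟨Cc, inferInstance, inferInstance, inferInstance, α, β, AlgHom.ext fun z => ?_, ?_⟩
  · obtain ⟨z, rfl⟩ := hφA z
    show β (α (φA z)) = _
    rw [show α (φA z) = cm (rename Sum.inr z) from AlgHom.liftOfSurjective_apply φA hφA _ _ z]
    show aeval (Sum.elim a fun k => φ (φA (X k))) (rename Sum.inr z) = _
    rw [aeval_rename, Sum.elim_comp_inr]
    exact hAval φ z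
  -- the localization is `B'`
  let Φ : Cc →ₐ[R] B' := Ideal.Quotient.liftₐ I (aeval (Sum.elim x fun k => g (φA (X k))))
    (hdesc x g (fun j => by rw [hFx, mul_zero]) (fun k => by rw [hpw, sub_self, mul_zero]))
  obtain ⟨CS, _, _, _, _, _⟩ : ∃ (CS : Type u) (_ : CommRing CS) (_ : Algebra Cc CS) (_ : Algebra R CS)
      (_ : IsScalarTower R Cc CS), IsLocalization (Algebra.algebraMapSubmonoid Cc S) CS :=
    ⟨Localization (Algebra.algebraMapSubmonoid Cc S), inferInstance, inferInstance, inferInstance,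
      inferInstance, inferInstance⟩
  have hSC : ∀ s : S, IsUnit (algebraMap R CS s) := fun s => by
    rw [IsScalarTower.algebraMap_apply R Cc CS]
    exact IsLocalization.map_units CS (⟨algebraMap R Cc s, s.1, s.2, rfl⟩ : Algebra.algebraMapSubmonoid Cc S)
  let _ : Algebra Q CS := (IsLocalization.lift (S := Q) hSC).toAlgebra
  have : IsScalarTower R Q CS := IsScalarTower.of_algebraMap_eq fun z => (IsLocalization.lift_eq hSC z).symm
  let ιC : Cc →ₐ[R] CS := IsScalarTower.toAlgHom R Cc CS
  let zC : Fin n → CS := fun i => ιC (cm (X (Sum.inl i)))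
  have hren : ∀ z, ιC (cm (rename Sum.inl z)) = aeval zC z := fun z => by
    suffices (ιC.comp cm).comp (rename Sum.inl) = aeval zC from DFunLike.congr_fun this z
    refine MvPolynomial.algHom_ext fun i => ?_
    simp [zC]
  have hμu : IsUnit (algebraMap R CS μ) := hSC ⟨μ, hμS⟩
  have hF0 : ∀ j, aeval zC (F j) = 0 := fun j => by
    refine hμu.mul_right_eq_zero.1 ?_
    rw [← hren, ← ιC.commutes, ← map_mul, ← cm.commutes, ← map_mul, MvPolynomial.algebraMap_eq,
      show C μ * rename Sum.inl (F j) = rel (.inl j) from rfl, hrel, map_zero]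
  have hker : ∀ z ∈ RingHom.ker (φx : MvPolynomial (Fin n) Q →+* B'), aeval (R := Q) zC z = 0 := by
    intro z hz
    let ev : MvPolynomial (Fin n) Q →ₐ[Q] CS := aeval zC
    have h1 : ∀ j, ev (sc' (f j)) = 0 := fun j => by
      have h2 := congrArg ev (hF j)
      rw [show ev (map (algebraMap R Q) (F j)) = aeval zC (F j) from aeval_map_algebraMap Q _ _, hF0,
        map_mul, ← MvPolynomial.algebraMap_eq, AlgHom.commutes, ← IsScalarTower.algebraMap_apply] at h2
      exact (hSC ⟨tF j, htF j⟩).mul_right_eq_zero.1 h2.symm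
    have h3 : sc z ∈ Submodule.span (MvPolynomial (Fin n) Q) (Set.range f) := hf.ge (by
      show φ' (sc z) = 0
      rw [hsc]; exact hz)
    have h4 : (ev.comp sc') (sc z) = 0 := by
      refine (Ideal.span_le (I := RingHom.ker (ev.comp sc'))).2 ?_ h3
      rintro _ ⟨j, rfl⟩
      exact h1 j
    have h5 : ev.comp (sc'.comp sc) = ev := by
      refine MvPolynomial.algHom_ext fun i => ?_
      simp only [sc, sc', ev, AlgHom.comp_apply, aeval_X, map_mul, aeval_C, MvPolynomial.algebraMap_eq]
      rw [← mul_assoc, ← map_mul, hσi, map_one, one_mul]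
    rwa [← AlgHom.comp_apply, AlgHom.comp_assoc, h5] at h4
  let Ψ : B' →ₐ[Q] CS := AlgHom.liftOfSurjective φx hφx (aeval zC) hker
  have hΨ : ∀ z, Ψ (φx z) = aeval (R := Q) zC z := AlgHom.liftOfSurjective_apply φx hφx _ _
  have hΨx : ∀ i, Ψ (x i) = zC i := fun i => by
    rw [show x i = φx (X i) from (aeval_X _ _).symm, hΨ, aeval_X]
  have hΨR : ∀ z, Ψ (aeval x z) = aeval zC z := fun z => by
    rw [← AlgHom.restrictScalars_apply R Ψ, comp_aeval_apply]
    congr 2
    exact funext hΨx
  have hΨΦ : ∀ z, Ψ (Φ z) = ιC z := by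
    intro z
    obtain ⟨z, rfl⟩ := Ideal.Quotient.mk_surjective z
    suffices ((Ψ.restrictScalars R).comp Φ).comp cm = ιC.comp cm from DFunLike.congr_fun this z
    refine MvPolynomial.algHom_ext fun i => ?_
    rcases i with i | k
    · show Ψ (Φ (cm (X (Sum.inl i)))) = _
      rw [show Φ (cm (X (Sum.inl i))) = x i from aeval_X _ _, hΨx]
      rfl
    · show Ψ (Φ (cm (X (Sum.inr k)))) = ιC (cm (X (Sum.inr k)))
      rw [show Φ (cm (X (Sum.inr k))) = g (φA (X k)) from aeval_X _ _]
      refine (hSC ⟨u k, hu k⟩).mul_left_cancel ?_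
      show algebraMap R CS (u k) * _ = algebraMap R CS (u k) * _
      rw [← (Ψ.restrictScalars R).commutes (u k)]
      show Ψ (algebraMap R B' (u k)) * Ψ _ = _
      rw [← map_mul, ← hpw, hΨR, (Ψ.restrictScalars R).commutes, ← hren, eq_comm, ← sub_eq_zero]
      refine hμu.mul_right_eq_zero.1 ?_
      rw [← ιC.commutes, ← ιC.commutes, ← map_mul, ← map_sub, ← map_mul, ← cm.commutes, ← cm.commutes,
        ← map_mul, ← map_sub, ← map_mul, MvPolynomial.algebraMap_eq,
        show C μ * (C (u k) * X (Sum.inr k) - rename Sum.inl (pk k)) = rel (.inr (.inr k)) from rfl,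
        hrel, map_zero]
  have hSB : ∀ s : Algebra.algebraMapSubmonoid Cc S, IsUnit (Φ s) := by
    rintro ⟨_, s, hs, rfl⟩
    show IsUnit (Φ (algebraMap R Cc s))
    rw [AlgHom.commutes, IsScalarTower.algebraMap_apply R Q B']
    exact (IsLocalization.map_units Q (⟨s, hs⟩ : S)).map _
  let Φ' : CS →ₐ[R] B' := IsLocalization.liftAlgHom (S := CS) hSB
  have hΦ' : ∀ z, Φ' (ιC z) = Φ z := fun z => IsLocalization.lift_eq hSB z
  let e : B' ≃ₐ[R] CS := AlgEquiv.ofAlgHom (Ψ.restrictScalars R) Φ'
    (IsLocalization.algHom_ext (Algebra.algebraMapSubmonoid Cc S) (AlgHom.ext fun z => by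
      show Ψ (Φ' (ιC z)) = ιC z
      rw [hΦ', hΨΦ]))
    (AlgHom.ext fun b => by
      obtain ⟨z, rfl⟩ := hφx b
      show Φ' (Ψ (φx z)) = φx z
      suffices (Φ'.toRingHom.comp Ψ.toRingHom).comp φx.toRingHom = φx.toRingHom from RingHom.congr_fun this z
      refine MvPolynomial.ringHom_ext' (IsLocalization.ringHom_ext S (RingHom.ext fun t => ?_)) fun i => ?_
      · show Φ' (Ψ (φx (C (algebraMap R Q t)))) = φx (C (algebraMap R Q t))
        rw [← MvPolynomial.algebraMap_eq, φx.commutes, Ψ.commutes, ← IsScalarTower.algebraMap_apply,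
          ← IsScalarTower.algebraMap_apply, Φ'.commutes]
      · show Φ' (Ψ (φx (X i))) = φx (X i)
        rw [hΨ, aeval_X, show φx (X i) = x i from aeval_X _ _, hΦ']
        exact aeval_X _ _)
  have : Algebra.FormallyEtale R Q := Algebra.FormallyEtale.of_isLocalization S
  have : Algebra.FormallySmooth R B' := Algebra.FormallySmooth.comp R Q B'
  have hCS : Algebra.FormallySmooth R CS := Algebra.FormallySmooth.of_equiv e
  -- the primes disjoint from `S` are smooth points
  have hsm : ∀ (P : Ideal Cc) [P.IsPrime], (∀ s ∈ S, algebraMap R Cc s ∉ P) → Algebra.IsSmoothAt R P := by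
    intro P hP hPs
    obtain ⟨L, _, _, _, _, _⟩ : ∃ (L : Type u) (_ : CommRing L) (_ : Algebra Cc L) (_ : Algebra R L)
        (_ : IsScalarTower R Cc L), IsLocalization.AtPrime L P :=
      ⟨Localization.AtPrime P, inferInstance, inferInstance, inferInstance, inferInstance, inferInstance⟩
    have hle : Algebra.algebraMapSubmonoid Cc S ≤ P.primeCompl := by
      rintro _ ⟨s, hs, rfl⟩
      exact hPs s hs
    let _ : Algebra CS L := IsLocalization.localizationAlgebraOfSubmonoidLe CS L _ _ hle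
    have : IsScalarTower Cc CS L :=
      IsLocalization.localization_isScalarTower_of_submonoid_le CS L _ _ hle
    have : IsScalarTower R CS L := IsScalarTower.to₁₃₄ R Cc CS L
    have : IsLocalization (P.primeCompl.map (algebraMap Cc CS)) L :=
      IsLocalization.isLocalization_of_submonoid_le CS L _ _ hle
    have : Algebra.FormallyEtale CS L := Algebra.FormallyEtale.of_isLocalization (P.primeCompl.map (algebraMap Cc CS))
    have : Algebra.FormallySmooth R L := Algebra.FormallySmooth.comp R CS L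
    exact Algebra.FormallySmooth.of_equiv
      ((IsLocalization.algEquiv P.primeCompl L (Localization.AtPrime P)).restrictScalars R)
  -- finitely many obstructions
  have : IsNoetherianRing Cc := Algebra.FiniteType.isNoetherianRing R Cc
  let Sing := _root_.Smoothing.singularIdeal R Cc
  have hmin : ∀ P ∈ Sing.minimalPrimes, ∃ s ∈ S, algebraMap R Cc s ∈ P := by
    intro P hP
    by_contra! hcon
    have hPp := hP.1.1
    have h1 := hsm P hcon
    obtain ⟨z, hz, hsmz⟩ := Algebra.IsSmoothAt.exists_notMem_smooth R P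
    refine hz (hP.1.2 ?_)
    rw [SingularComp.mem_singularIdeal_iff]
    intro P' _ hP'
    exact Algebra.basicOpen_subset_smoothLocus_iff_smooth.2 hsmz
      (show (⟨P', ‹_›⟩ : PrimeSpectrum Cc) ∈ PrimeSpectrum.basicOpen z from hP')
  choose sP hsP hsPm using hmin
  have hfin : Sing.minimalPrimes.Finite := Ideal.finite_minimalPrimes_of_isNoetherianRing Cc Sing
  let s := ∏ P : hfin.toFinset, sP P.1 (hfin.mem_toFinset.1 P.2)
  refine ⟨s, prod_mem fun P _ => hsP _ _, ?_⟩
  have h1 : algebraMap R Cc s ∈ Sing.radical := by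
    rw [← Ideal.sInf_minimalPrimes, Submodule.mem_sInf]
    intro P hP
    refine Ideal.mem_of_dvd P ?_ (hsPm P hP)
    exact map_dvd _ (Finset.dvd_prod_of_mem
      (fun P : hfin.toFinset => sP P.1 (hfin.mem_toFinset.1 P.2))
      (Finset.mem_univ (⟨P, hfin.mem_toFinset.2 hP⟩ : hfin.toFinset)))
  obtain ⟨N, hN⟩ := h1
  rw [SingularComp.mem_singularIdeal_iff]
  intro P _ hP
  exact SingularComp.mem_singularIdeal_iff.1 hN P fun h => hP (Ideal.IsPrime.mem_of_pow_mem inferInstance N h)

end Groth.Agent.Lib.Smoothing.Popescu.Descend
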