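import Groth.Agent.Lib.Smoothing.Char.Resolve
import Groth.Agent.Lib.Smoothing.SeparableResidue
import Groth.Agent.Lib.Smoothing.DVR
import Groth.Agent.Lib.PBasis.MacLane
import Groth.Agent.Lib.SymGr.BaseChange

/-!
# Popescu's theorem over a field
-/

universe u

open scoped TensorProduct

namespace Groth.Agent.Lib.Smoothing.Popescu.Field

/-- If every local problem can be resolved, then every map factors through a smooth algebra. -/
theorem indSmooth_of_forall_resolvable {R Λ : Type u} [CommRing R] [IsNoetherianRing R] [CommRing Λ]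
    [Algebra R Λ] [IsNoetherianRing Λ]
    (h : ∀ (A : Type u) [CommRing A] [Algebra R A] [Algebra.FinitePresentation R A] (φ : A →ₐ[R] Λ)
      (q : Ideal Λ) [q.IsPrime], q ∈ (_root_.Smoothing.singRad R φ).minimalPrimes →
        _root_.Smoothing.Resolvable R φ q) :
    _root_.Smoothing.IndSmooth R Λ := by
  suffices H : ∀ (I : Ideal Λ) (A : Type u) [CommRing A] [Algebra R A] [Algebra.FinitePresentation R A]
      (φ : A →ₐ[R] Λ), _root_.Smoothing.singRad R φ = I →
      ∃ (B : Type u) (_ : CommRing B) (_ : Algebra R B),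
        Algebra.Smooth R B ∧ ∃ (g : A →ₐ[R] B) (h : B →ₐ[R] Λ), h.comp g = φ by
    intro A _ _ hA φ
    obtain ⟨B, _, _, hB, g, h, hgh⟩ := H _ A φ rfl
    exact ⟨B, inferInstance, inferInstance, hB, g, h, hgh⟩
  intro I
  induction I using (wellFounded_gt (α := Ideal Λ)).induction with
  | _ I ih =>
    intro A _ _ _ φ hI
    by_cases htop : I = ⊤
    · refine DVR.exists_smooth_factor φ ?_
      rw [← Ideal.radical_eq_top]
      exact hI.trans htop
    · obtain ⟨M, hM, hIM⟩ := Ideal.exists_le_maximal I htop
      obtain ⟨q, hq, -⟩ := Ideal.exists_minimalPrimes_le (J := M) (hI.le.trans hIM)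
      have : q.IsPrime := hq.1.1
      obtain ⟨B, _, _, _, g, h', hgh, hle, hnle⟩ := h A φ q hq
      obtain ⟨C, _, _, hC, g', h'', hgh'⟩ := ih (_root_.Smoothing.singRad R h')
        (lt_of_le_not_ge (hI.ge.trans hle) fun hc => hnle (hc.trans (hI.ge.trans hq.1.2))) B h' rfl
      exact ⟨C, inferInstance, inferInstance, hC, g'.comp g, h'', by
        rw [← AlgHom.comp_assoc, hgh', hgh]⟩

/-- A Noetherian geometrically regular algebra over a field is ind-smooth. -/
theorem indSmooth {k Λ : Type u} [Field k] [CommRing Λ] [Algebra k Λ] [IsNoetherianRing Λ]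
    (hreg : _root_.CAlg.IsGeometricallyRegular k Λ) : _root_.Smoothing.IndSmooth k Λ := by
  have hk : IsRegularRing (k ⊗[k] Λ) := hreg k inferInstance
  have : IsRegularRing Λ := IsRegularRing.of_ringEquiv (Algebra.TensorProduct.lid k Λ).toRingEquiv
  refine indSmooth_of_forall_resolvable fun A _ _ _ φ q _ hq => ?_
  have : IsRegularLocalRing (Localization.AtPrime q) := isRegularRing_iff.1 inferInstance q
  obtain ⟨p, hp⟩ := CharP.exists k
  rcases CharP.char_is_prime_or_zero k p with hpp | rfl
  · have : Fact p.Prime := ⟨hpp⟩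
    obtain ⟨L, _, _, _, _, _, _⟩ : ∃ (L : Type u) (_ : CommRing L) (_ : IsLocalRing L) (_ : Algebra Λ L)
        (_ : IsLocalization.AtPrime L q) (_ : Algebra k L), IsScalarTower k Λ L :=
      ⟨Localization.AtPrime q, inferInstance, inferInstance, inferInstance, inferInstance, inferInstance,
        inferInstance⟩
    obtain ⟨hL, hinj, hinj'⟩ := Char.Inj.regular_and_injective p hreg q L
    exact Char.Resolve.resolvable p φ q hq L hinj hinj'
  · have : CharZero k := CharP.charP_to_charZero k
    have : Algebra.IsGeometricallyReduced k q.ResidueField :=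
      Groth.Agent.Lib.PBasis.MacLane.isGeometricallyReduced_of_charZero
    exact SeparableResidue.resolvable φ q hq

end Groth.Agent.Lib.Smoothing.Popescu.Field
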